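import Groth.Agent.Lib.RankCell14.Weight
import Groth.Agent.Lib.Rigidity.SemiAbelian
import Groth.Agent.Lib.DiagGrp.CharHom
import Groth.Agent.Lib.DiagGrp.CharProps
import Mathlib.RingTheory.RootsOfUnity.AlgebraicallyClosed
import Mathlib.LinearAlgebra.SymmetricAlgebra.Basis
import Mathlib.RingTheory.Smooth.Basic

/-!
Subtori of groups without torsion; smoothness of the additive group.
-/

universe u

open CategoryTheory MonoidalCategory CartesianMonoidalCategory MonObj GrpObj AlgebraicGeometry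
open CategoryTheory.Limits
open GrothLib.DiagGrp

set_option backward.isDefEq.respectTransparency false

namespace GrothLib.NoTorus14

theorem smooth_Ga (S : Scheme.{u}) : Smooth (Red.Ga S).hom := by
  haveI : Algebra.Smooth (ULift.{u} ℤ) (MvPolynomial Unit (ULift.{u} ℤ)) := ⟨inferInstance, inferInstance⟩
  haveI h0 : Algebra.Smooth (ULift.{u} ℤ) (SymmetricAlgebra (ULift.{u} ℤ) (ULift.{u} ℤ)) :=
    Algebra.Smooth.of_equiv (SymmetricAlgebra.equivMvPolynomial
      (Module.Basis.singleton Unit (ULift.{u} ℤ))).symm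
  haveI : Smooth Red.GaZ.{u}.hom :=
    (HasRingHomProperty.Spec_iff (P := @Smooth)).mpr (RingHom.smooth_algebraMap.mpr h0)
  exact MorphismProperty.of_isPullback (P := @Smooth)
    (IsPullback.of_hasPullback Red.GaZ.{u}.hom (Limits.IsTerminal.from specULiftZIsTerminal S)) ‹_›

variable {k : Type u} [Field k]

/-- A diagonalisable group of trivial character group is trivial. -/
theorem isIso_DS_hom (W : Scheme.{u}) (M : Type) [AddCommGroup M] [Subsingleton M] : IsIso (Red.DS W M).hom := by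
  refine ⟨η[Red.DS W M].left, ?_, Over.w η[Red.DS W M]⟩
  have h : toUnit (Red.DS W M) ≫ η[Red.DS W M] = 𝟙 _ := by
    refine ds_hom_ext fun C _ p χ => ?_
    rw [← Hom.one_def, MonObj.comp_one, Category.comp_id,
      show χ = 1 from MonoidHom.ext fun m => by rw [Subsingleton.elim m 1, map_one, map_one], map_one]
  exact congrArg Over.Hom.left h

/-- A torus mapped monomorphically to a group without torsion of order prime to the characteristic is trivial. -/
theorem isTrivialGrp_of_mono {T U : Over (Spec (CommRingCat.of k))} [GrpObj T] [GrpObj U] (hT : Red.IsTorus T)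
    (j : T ⟶ U) [IsMonHom j] [Mono j]
    (hU : ∀ (ℓ : ℕ), (ℓ : k) ≠ 0 → ∀ (Y : Over (Spec (CommRingCat.of k))) (x : Y ⟶ U), x ^ ℓ = 1 → x = 1) :
    Red.IsTrivialGrp T := by
  obtain ⟨L, _, _, _, r, ⟨e⟩⟩ := GrothLib.Rigidity.exists_split hT
  let f := Spec.map (CommRingCat.ofHom (algebraMap k L))
  let a : Red.bc f T ≅ Red.DS (Spec (CommRingCat.of L)) (Fin r → ℤ) := (Grp.forget _).mapIso e
  haveI : IsMonHom a.inv := e.inv.hom.isMonHom_hom
  have hr : r = 0 := by
    by_contra hr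
    obtain ⟨ℓ, hℓ, hℓk⟩ : ∃ ℓ : ℕ, ℓ.Prime ∧ (ℓ : k) ≠ 0 := by
      by_cases h2 : (2 : k) = 0
      · refine ⟨3, Nat.prime_three, fun h3 => one_ne_zero (α := k) ?_⟩
        rw [show (1 : k) = ((3 : ℕ) : k) - 2 by norm_num, h3, h2, sub_zero]
      · exact ⟨2, Nat.prime_two, by exact_mod_cast h2⟩
    have hℓL : (ℓ : L) ≠ 0 := fun h => hℓk ((algebraMap k L).injective (by rw [map_natCast, map_zero, h]))
    haveI : NeZero (ℓ : L) := ⟨hℓL⟩
    obtain ⟨ζ, hζ⟩ := HasEnoughRootsOfUnity.exists_primitiveRoot L ℓ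
    let χ : Multiplicative (Fin r → ℤ) →* L :=
      (Units.coeHom L).comp
        ((zpowersHom Lˣ (hζ.isUnit hℓ.ne_zero).unit).comp
          (AddMonoidHom.toMultiplicative (Pi.evalAddMonoidHom (fun _ : Fin r => ℤ) ⟨0, Nat.pos_of_ne_zero hr⟩)))
    have hχ : χ ^ ℓ = 1 := by
      refine MonoidHom.ext fun m => ?_
      simp only [MonoidHom.pow_apply, MonoidHom.one_apply, χ, MonoidHom.coe_comp, Function.comp_apply,
        Units.coeHom_apply, zpowersHom_apply, ← Units.val_pow_eq_pow_val]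
      rw [← zpow_natCast, ← zpow_mul, mul_comm, zpow_mul, zpow_natCast,
        show (hζ.isUnit hℓ.ne_zero).unit ^ ℓ = 1 from Units.ext (by simp [hζ.pow_eq_one]), one_zpow, Units.val_one]
    let z := dsPoint (Fin r → ℤ) (𝟙 (Spec (CommRingCat.of L))) χ
    let Y := Over.mk (𝟙 (Spec (CommRingCat.of L)))
    let x : (Over.map f).obj Y ⟶ T := (bcPointMulEquiv f T Y).symm (z ≫ a.inv)
    have hx : x ^ ℓ = 1 := by
      rw [show x ^ ℓ = (bcPointMulEquiv f T Y).symm ((z ≫ a.inv) ^ ℓ) from (map_pow _ _ ℓ).symm,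
        show (z ≫ a.inv) ^ ℓ = (z ^ ℓ) ≫ a.inv from (map_pow (GrothLib.RankOne.postHom a.inv Y) z ℓ).symm,
        show z ^ ℓ = dsPoint (Fin r → ℤ) (𝟙 _) (χ ^ ℓ) from (map_pow (dsPoint (Fin r → ℤ) (𝟙 _)) χ ℓ).symm,
        hχ, map_one, MonObj.one_comp, map_one]
    have hxj : x ≫ j = 1 := hU ℓ hℓk _ _ (by
      rw [show (x ≫ j) ^ ℓ = (x ^ ℓ) ≫ j from (map_pow (GrothLib.RankOne.postHom j _) x ℓ).symm, hx,
        MonObj.one_comp])
    have hx1 : x = 1 := (cancel_mono j).mp (hxj.trans (MonObj.one_comp j).symm)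
    have hz : z ≫ a.inv = 1 := (bcPointMulEquiv f T Y).symm.injective (hx1.trans (map_one _).symm)
    have hz1 : z = 1 := (cancel_mono a.inv).mp (hz.trans (MonObj.one_comp a.inv).symm)
    have hχ1 : χ = 1 := (dsPoint (Fin r → ℤ) (𝟙 (Spec (CommRingCat.of L)))).injective (hz1.trans (map_one _).symm)
    have h1 : χ (Multiplicative.ofAdd fun _ => 1) = 1 := by rw [hχ1]; rfl
    simp [χ, zpowersHom_apply] at h1
    exact hℓ.ne_one ((hζ.eq_orderOf).trans (by rw [h1, orderOf_one]))
  subst hr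
  haveI : IsIso a.hom.left := inferInstanceAs (IsIso ((Over.forget _).map a.hom))
  haveI := isIso_DS_hom (Spec (CommRingCat.of L)) (Fin 0 → ℤ)
  have h0 : IsIso (Red.bc f T).hom := by
    rw [← Over.w a.hom]; infer_instance
  haveI : Flat f := flat_of_field (L := k) _
  haveI : Surjective f := ⟨fun x => ⟨IsLocalRing.closedPoint L, Subsingleton.elim (α := PrimeSpectrum k) _ _⟩⟩
  exact MorphismProperty.of_isPullback_of_descendsAlong (P := MorphismProperty.isomorphisms Scheme.{u})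
    (Q := @Surjective ⊓ @Flat ⊓ @QuasiCompact) (IsPullback.of_hasPullback T.hom f).flip
    ⟨⟨inferInstance, inferInstance⟩, inferInstance⟩ h0

end GrothLib.NoTorus14
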